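import Cfsg.Agent.Lib.Helper15.RealN2
import Cfsg.Agent.Lib.Helper15.FullyRam

/-!
# Real irreducible characters of odd degree: definitions
-/

set_option autoImplicit false

namespace Cfsg.Agent.Lib.Helper68.RO

open Cfsg Cfsg.Agent.Lib Cfsg.Agent.Lib.Helper15
open scoped ComplexConjugate

/-- real valued and of odd degree -/
def RealOdd {X : Type*} [Group X] (χ : X → ℂ) : Prop :=
  (∀ g : X, (χ g).im = 0) ∧ Odd (charDegree χ)

/-- the number of real valued irreducible characters of odd degree -/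
noncomputable def r (X : Type*) [Group X] : ℕ :=
  Nat.card {χ : IrrCharacter X // RealOdd (χ : X → ℂ)}

/-- the statement to be proved by induction -/
def Thm (X : Type*) [Group X] : Prop :=
  ∀ P : Sylow 2 X, r X = r (Subgroup.normalizer ((P : Subgroup X) : Set X))

variable {G : Type*} [Group G]

/-- the number of real irreducible characters of odd degree of the subgroup `X` lying over `lam` -/
noncomputable def rOver {M X : Subgroup G} [Fintype M] (hMX : M ≤ X) (lam : M → ℂ) : ℕ :=
  Nat.card {χ : IrrCharacter X // RealOdd (χ : X → ℂ) ∧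
    classInner (resFun hMX (χ : X → ℂ)) lam ≠ 0}

/-- the real linear `P`-invariant characters of the normal subgroup `M` -/
def Lam (M P : Subgroup G) [M.Normal] : Type _ :=
  {lam : IrrCharacter M // (∀ m : M, ((lam : M → ℂ) m).im = 0) ∧ (lam : M → ℂ) 1 = 1 ∧
    ∀ x ∈ P, cj M x (lam : M → ℂ) = (lam : M → ℂ)}

/-- conjugacy under the normalizer of `P` -/
def lamSetoid (M P : Subgroup G) [M.Normal] : Setoid (Lam M P) where
  r a b := ∃ n ∈ Subgroup.normalizer (P : Set G), (b.1 : M → ℂ) = cj M n (a.1 : M → ℂ)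
  iseqv := by
    refine ⟨fun a => ⟨1, Subgroup.one_mem _, (cj_one M _).symm⟩, ?_, ?_⟩
    · rintro a b ⟨n, hn, h⟩
      exact ⟨n⁻¹, Subgroup.inv_mem _ hn, by rw [h, cj_inv_cj]⟩
    · rintro a b c ⟨n, hn, h⟩ ⟨n', hn', h'⟩
      exact ⟨n * n', Subgroup.mul_mem _ hn hn', by rw [h', h, cj_cj]⟩

/-- `lam` has a real extension to `P` -/
def HasRealExt {M P : Subgroup G} (hMP : M ≤ P) (lam : M → ℂ) : Prop :=
  ∃ μ : P → ℂ, IsIrrCharacter P μ ∧ (∀ x : P, (μ x).im = 0) ∧ resFun hMP μ = lam

end Cfsg.Agent.Lib.Helper68.RO
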