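import Cfsg.Agent.Lib.Helper68.RO.Part1

set_option autoImplicit false

namespace Cfsg.Agent.Lib.Helper68.RO

open Cfsg Cfsg.Agent.Lib Cfsg.Agent.Lib.Helper15
open scoped ComplexConjugate

universe u

theorem two_le_card_of_ne_bot {G : Type*} [Group G] [Finite G] {M : Subgroup G} (h : M ≠ ⊥) :
    2 ≤ Nat.card M := by
  have h1 : Nat.card M ≠ 1 := fun h1 => h (Subgroup.card_eq_one.1 h1)
  have h2 : 0 < Nat.card M := Nat.card_pos
  omega

theorem card_quot_lt {G : Type*} [Group G] [Finite G] {M T : Subgroup G} [M.Normal] (h : M ≠ ⊥)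
    (hMT : M ≤ T) : Nat.card (T ⧸ M.subgroupOf T) < Nat.card G := by
  have h1 := (M.subgroupOf T).card_mul_index
  rw [card_subgroupOf_of_le hMT, Subgroup.index_eq_card] at h1
  have h2 := two_le_card_of_ne_bot h
  have h3 : Nat.card T ≤ Nat.card G := Subgroup.card_le_card_group T
  have h4 : 0 < Nat.card (T ⧸ M.subgroupOf T) := Nat.card_pos
  nlinarith

theorem card_quot_lt' {G : Type*} [Group G] [Finite G] {M : Subgroup G} [M.Normal] (h : M ≠ ⊥) :
    Nat.card (G ⧸ M) < Nat.card G := by
  have h1 := M.card_mul_index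
  rw [Subgroup.index_eq_card] at h1
  have h2 := two_le_card_of_ne_bot h
  have h4 : 0 < Nat.card (G ⧸ M) := Nat.card_pos
  nlinarith

theorem main_aux : ∀ (n : ℕ) (G : Type u) [Group G] [Finite G] [Group.IsSolvable G],
    Nat.card G ≤ n → Thm G := by
  intro n
  induction n with
  | zero =>
    intro G _ _ _ h
    have : 0 < Nat.card G := Nat.card_pos
    omega
  | succ n ih =>
    intro G _ _ _ h
    rcases subsingleton_or_nontrivial G with hs | hn
    · intro P
      have h1 : Subgroup.normalizer ((P : Subgroup G) : Set G) = ⊤ := by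
        rw [eq_top_iff]
        intro x _
        rw [Subsingleton.elim x 1]
        exact Subgroup.one_mem _
      exact r_congr ((Subgroup.topEquiv (G := G)).symm.trans (MulEquiv.subgroupCongr h1.symm))
    · obtain ⟨M, hMn, hM, hcase⟩ := Helper69.RO.exists_normal_odd_or_two (G := G)
      haveI := hMn
      rcases hcase with hodd | h2
      · exact caseA M hodd (ih (G ⧸ M) (by have := card_quot_lt' hM; omega))
      · classical
        haveI := Fintype.ofFinite G
        exact caseB M h2 (fun T hMT => ih (T ⧸ M.subgroupOf T)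
          (by have := card_quot_lt hM hMT; omega))

theorem part1 {G : Type u} [Group G] [Finite G] [Group.IsSolvable G] (P : Sylow 2 G) :
    r G = r (Subgroup.normalizer ((P : Subgroup G) : Set G)) :=
  main_aux _ G le_rfl P

end Cfsg.Agent.Lib.Helper68.RO
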