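import Cfsg.Agent.Lib.Helper68.RO.Defs

set_option autoImplicit false

namespace Cfsg.Agent.Lib.Helper68.RO

open Cfsg Cfsg.Agent.Lib Cfsg.Agent.Lib.Helper15
open scoped ComplexConjugate

theorem realOdd_inflate {X : Type*} [Group X] (K : Subgroup X) [K.Normal] (ψ : X ⧸ K → ℂ) :
    RealOdd (fun g : X => ψ (g : X ⧸ K)) ↔ RealOdd ψ := by
  unfold RealOdd charDegree
  constructor
  · rintro ⟨h1, h2⟩
    refine ⟨fun y => ?_, h2⟩
    obtain ⟨g, rfl⟩ := QuotientGroup.mk_surjective y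
    exact h1 g
  · rintro ⟨h1, h2⟩
    exact ⟨fun x => h1 _, h2⟩

/-- PIECE A2. -/
theorem r_quot_of_ker {X : Type*} [Group X] [Finite X] (K : Subgroup X) [K.Normal]
    (hK : ∀ χ : X → ℂ, IsIrrCharacter X χ → RealOdd χ → ∀ k ∈ K, χ k = χ 1) :
    r X = r (X ⧸ K) := by
  unfold r
  symm
  apply Nat.card_congr
  refine Equiv.ofBijective (fun ψ => ⟨(Helper80.inflateEquiv K ψ.1).1,
    (realOdd_inflate K (ψ.1 : X ⧸ K → ℂ)).2 ψ.2⟩) ⟨?_, ?_⟩
  · intro ψ₁ ψ₂ h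
    apply Subtype.ext
    apply (Helper80.inflateEquiv K).injective
    apply Subtype.ext
    exact congrArg (fun x : {χ : IrrCharacter X // RealOdd (χ : X → ℂ)} => x.1) h
  · rintro ⟨χ, hχ⟩
    obtain ⟨ψ, hψ⟩ := (Helper80.inflateEquiv K).surjective ⟨χ, hK χ χ.2 hχ⟩
    have h1 : (Helper80.inflateEquiv K ψ).1 = χ := congrArg Subtype.val hψ
    refine ⟨⟨ψ, ?_⟩, ?_⟩
    · rw [← realOdd_inflate K]
      have h2 : (fun g : X => (ψ : X ⧸ K → ℂ) (g : X ⧸ K)) = (χ : X → ℂ) :=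
        congrArg Subtype.val h1
      rw [h2]
      exact hχ
    · apply Subtype.ext
      exact h1

end Cfsg.Agent.Lib.Helper68.RO
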