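import Cfsg.Agent.Lib.Helper68.RO.Defs

set_option autoImplicit false

namespace Cfsg.Agent.Lib.Helper68.RO

open Cfsg Cfsg.Agent.Lib Cfsg.Agent.Lib.Helper15
open scoped ComplexConjugate

variable {G : Type*} [Group G] [Fintype G] (M : Subgroup G) [M.Normal] [Fintype M]

attribute [local instance] irrActN

/-- PIECE B1b. -/
theorem lam_rel_of_under (P : Sylow 2 G) {X : Subgroup G}
    (hPX : (P : Subgroup G) ≤ X) (hMX : M ≤ X) {χ : X → ℂ} (hχ : IsIrrCharacter X χ)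
    (a b : Lam M (P : Subgroup G)) (ha : classInner (resFun hMX χ) (a.1 : M → ℂ) ≠ 0)
    (hb : classInner (resFun hMX χ) (b.1 : M → ℂ) ≠ 0) :
    (lamSetoid M (P : Subgroup G)).r a b := by
  classical
  obtain ⟨k, hk⟩ := rel_clifford_conj hMX hχ a.1.2 b.1.2 ha hb
  have hfix : ∀ c : Lam M (P : Subgroup G), ∀ x ∈ P, x • c.1 = c.1 := by
    intro c x hx
    apply Subtype.ext
    exact c.2.2.2 x⁻¹ (Subgroup.inv_mem _ hx)
  have hkb : ((k : G)⁻¹) • a.1 = b.1 := by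
    apply Subtype.ext
    change cj M ((k : G)⁻¹)⁻¹ (a.1 : M → ℂ) = _
    rw [inv_inv, hk]
  obtain ⟨n, hn, hna⟩ := sylow_orbit_fusion P a.1 (hfix a) ((k : G)⁻¹) (by
    rw [hkb]
    exact hfix b)
  refine ⟨n⁻¹, Subgroup.inv_mem _ hn, ?_⟩
  rw [hkb] at hna
  exact (congrArg Subtype.val hna).symm

end Cfsg.Agent.Lib.Helper68.RO
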