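import Cfsg.Agent.Lib.Helper68.RO.Defs

set_option autoImplicit false

namespace Cfsg.Agent.Lib.Helper68.RO

open Cfsg Cfsg.Agent.Lib Cfsg.Agent.Lib.Helper15
open scoped ComplexConjugate

variable {G : Type*} [Group G] [Fintype G] (M : Subgroup G) [M.Normal] [Fintype M]

theorem cj_resFun_of_mem {X : Subgroup G} (hMX : M ≤ X) {χ : X → ℂ} (hχ : IsClassFunction X χ)
    {n : G} (hn : n ∈ X) : cj M n (resFun hMX χ) = resFun hMX χ := by
  funext m
  rw [cj_apply, resFun_apply, resFun_apply]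
  exact hχ ⟨(m : G), hMX m.2⟩ ⟨n, hn⟩

/-- PIECE B1c. -/
theorem under_of_lam_rel (P : Subgroup G) {X : Subgroup G}
    (hNX : Subgroup.normalizer (P : Set G) ≤ X) (hMX : M ≤ X) {χ : X → ℂ}
    (hχ : IsIrrCharacter X χ)
    (a b : Lam M P) (hab : (lamSetoid M P).r a b)
    (ha : classInner (resFun hMX χ) (a.1 : M → ℂ) ≠ 0) :
    classInner (resFun hMX χ) (b.1 : M → ℂ) ≠ 0 := by
  obtain ⟨n, hn, hb⟩ := hab
  rw [hb, ← cj_resFun_of_mem M hMX (irr_cf hχ) (hNX hn), classInner_cj_cj]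
  exact ha

end Cfsg.Agent.Lib.Helper68.RO
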