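import Cfsg.Agent.Lib.Helper16.RO_PL
import Cfsg.Agent.Lib.Helper68.FR.Basic
import Cfsg.Agent.Lib.Helper80.CoreDvd

set_option autoImplicit false

namespace Cfsg.Agent.Lib.Helper68.RO

open Cfsg Cfsg.Agent.Lib Cfsg.Agent.Lib.Helper15
open scoped ComplexConjugate

variable {G : Type*} [Group G] [Fintype G] (M : Subgroup G) [M.Normal] [Fintype M]

theorem one_of_odd_of_two_group {Q : Type*} [Group Q] [Finite Q] (hQ : IsPGroup 2 Q) {μ : Q → ℂ}
    (hμ : IsIrrCharacter Q μ) (hodd : Odd (charDegree μ)) : μ 1 = 1 := by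
  obtain ⟨k, hk⟩ := hQ.exists_card_eq
  have h1 : charDegree μ ∣ 2 ^ k := by
    rw [← hk]
    exact Helper80.charDegree_dvd_card ⟨μ, hμ⟩
  obtain ⟨j, -, hj⟩ := (Nat.dvd_prime_pow Nat.prime_two).1 h1
  have h2 : charDegree μ = 1 := by
    rcases Nat.eq_zero_or_pos j with rfl | hj0
    · simpa using hj
    · exfalso
      rw [hj] at hodd
      exact (Nat.not_even_iff_odd.2 hodd) (Even.pow_of_ne_zero even_two hj0.ne')
  rw [Helper80.char_one_eq_charDegree (irr_char hμ), h2]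
  simp

/-- PIECE B3i (a real linear constituent of the restriction to `P`). -/
theorem hasRealExt_of_over (P : Sylow 2 G) {T : Subgroup G} (hMP : M ≤ (P : Subgroup G))
    (hPT : (P : Subgroup G) ≤ T) {lam : M → ℂ} (hlam : IsIrrCharacter M lam)
    (hinv : ∀ t ∈ T, cj M t lam = lam) {χ : T → ℂ} (hχ : IsIrrCharacter T χ) (hro : RealOdd χ)
    (hover : classInner (resFun (hMP.trans hPT) χ) lam ≠ 0) : HasRealExt hMP lam := by
  classical
  have hΦ : IsCharacter (P : Subgroup G) (resFun hPT χ) := char_resFun hPT (irr_char hχ)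
  have hΦro : RealOdd (resFun hPT χ) := ⟨fun x => hro.1 _, hro.2⟩
  obtain ⟨μ, hμ, hμro, hμΦ⟩ := Helper16.RO.exists_realOdd_constituent hΦ hΦro
  have hμ1 : μ 1 = 1 := one_of_odd_of_two_group P.2 hμ hμro.2
  have h1 := rel_restrict_eq_smul (hMP.trans hPT) hχ hlam hover (fun k => hinv k k.2)
  have h2 : resFun hMP (resFun hPT χ) = classInner (resFun (hMP.trans hPT) χ) lam • lam := h1
  have h3 := FR.over_of_constituent hMP hlam hΦ h2 hμ hμΦ
  have h4 : IsIrrCharacter M (resFun hMP μ) :=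
    irr_of_linear (char_resFun hMP (irr_char hμ)) hμ1
  exact ⟨μ, hμ, hμro.1, irr_eq_of_inner_ne_zero h4 hlam h3⟩

end Cfsg.Agent.Lib.Helper68.RO
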