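import Cfsg.Agent.Lib.Helper68.RO.Defs

set_option autoImplicit false

namespace Cfsg.Agent.Lib.Helper68.RO

open Cfsg Cfsg.Agent.Lib Cfsg.Agent.Lib.Helper15
open scoped ComplexConjugate

theorem realOdd_comp_equiv {X Y : Type*} [Group X] [Group Y] (e : X ≃* Y) (χ : Y → ℂ) :
    RealOdd (χ ∘ e) ↔ RealOdd χ := by
  unfold RealOdd charDegree
  constructor
  · rintro ⟨h1, h2⟩
    refine ⟨fun y => ?_, ?_⟩
    · have := h1 (e.symm y)
      simpa using this
    · simpa using h2
  · rintro ⟨h1, h2⟩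
    exact ⟨fun x => h1 (e x), by simpa using h2⟩

/-- PIECE R0. -/
theorem r_congr {X Y : Type*} [Group X] [Group Y] (e : X ≃* Y) : r X = r Y := by
  unfold r
  symm
  apply Nat.card_congr
  refine Equiv.subtypeEquiv (Helper80.irrCongr e) ?_
  intro χ
  exact (realOdd_comp_equiv e (χ : Y → ℂ)).symm

end Cfsg.Agent.Lib.Helper68.RO
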