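import Cfsg.Agent.Lib.Helper68.RO.PR0
import Cfsg.Agent.Lib.Helper68.RO.PA2
import Cfsg.Agent.Lib.Helper68.RO.PB1b
import Cfsg.Agent.Lib.Helper68.RO.PB1c
import Cfsg.Agent.Lib.Helper68.RO.PB3i
import Cfsg.Agent.Lib.Helper68.RO.PB4
import Cfsg.Agent.Lib.Helper16.RO_A1
import Cfsg.Agent.Lib.Helper16.RO_B1a
import Cfsg.Agent.Lib.Helper69.RO_B1d
import Cfsg.Agent.Lib.Helper69.RO_Q
import Cfsg.Agent.Lib.Helper69.RO_S0
import Cfsg.Agent.Lib.Helper73.RO_B2
import Cfsg.Agent.Lib.Helper73.RO_B3ii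
import Cfsg.Agent.Lib.Helper73.RO_B3iii
import Cfsg.Agent.Lib.Helper15.RealN4

set_option autoImplicit false

namespace Cfsg.Agent.Lib.Helper68.RO

open Cfsg Cfsg.Agent.Lib Cfsg.Agent.Lib.Helper15
open scoped ComplexConjugate

theorem odd_card_subgroupOf {G : Type*} [Group G] [Finite G] (K N : Subgroup G)
    (hK : Odd (Nat.card K)) : Odd (Nat.card (K.subgroupOf N)) := by
  have h1 : Nat.card (K.subgroupOf N) = Nat.card ↥(K ⊓ N) := by
    rw [← Subgroup.inf_subgroupOf_right]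
    exact card_subgroupOf_of_le inf_le_right
  rw [h1]
  exact Odd.of_dvd_nat hK (Subgroup.card_dvd_of_le inf_le_left)

theorem caseA {G : Type*} [Group G] [Finite G] (K : Subgroup G) [K.Normal]
    (hK : Odd (Nat.card K)) (IH : Thm (G ⧸ K)) : Thm G := by
  intro P
  classical
  haveI := Fintype.ofFinite G
  obtain ⟨Q, ⟨e⟩⟩ := Helper69.RO.exists_sylow_quot K P
  have h1 : r G = r (G ⧸ K) := r_quot_of_ker K (fun χ hχ h => Helper16.RO.ker_of_odd K hK hχ h)
  have h2 : r (Subgroup.normalizer ((P : Subgroup G) : Set G)) =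
      r ((Subgroup.normalizer ((P : Subgroup G) : Set G)) ⧸
        K.subgroupOf (Subgroup.normalizer ((P : Subgroup G) : Set G))) :=
    r_quot_of_ker _ (fun χ hχ h => Helper16.RO.ker_of_odd _ (odd_card_subgroupOf K _ hK) hχ h)
  rw [h1, IH Q, r_congr e, ← h2]

section B

variable {G : Type*} [Group G] [Fintype G] (M : Subgroup G) [M.Normal] [Fintype M]

theorem r_eq_sum (hM : IsPGroup 2 M) (P : Sylow 2 G) (X : Subgroup G)
    (hNX : Subgroup.normalizer ((P : Subgroup G) : Set G) ≤ X) (hMX : M ≤ X)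
    [Fintype (Quotient (lamSetoid M (P : Subgroup G)))] :
    r X = ∑ o : Quotient (lamSetoid M (P : Subgroup G)),
      rOver hMX ((Quotient.out o).1 : M → ℂ) := by
  have hPX : (P : Subgroup G) ≤ X := Subgroup.le_normalizer.trans hNX
  have h := Helper69.RO.card_eq_sum_of_classes (R := {χ : IrrCharacter X // RealOdd (χ : X → ℂ)})
    (lamSetoid M (P : Subgroup G))
    (fun χ a => classInner (resFun hMX (χ.1 : X → ℂ)) (a.1 : M → ℂ) ≠ 0)
    (fun χ => Helper16.RO.exists_lam_under M hM P hPX hMX χ.1.2 χ.2)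
    (fun χ a b ha hb => lam_rel_of_under M P hPX hMX χ.1.2 a b ha hb)
    (fun χ a b hab ha => under_of_lam_rel M (P : Subgroup G) hNX hMX χ.1.2 a b hab ha)
  refine h.trans (Finset.sum_congr rfl fun o _ => ?_)
  exact Nat.card_congr (Equiv.subtypeSubtypeEquivSubtypeInter
    (fun χ : IrrCharacter X => RealOdd (χ : X → ℂ))
    (fun χ : IrrCharacter X => classInner (resFun hMX (χ : X → ℂ))
      ((Quotient.out o).1 : M → ℂ) ≠ 0))

open Classical in
theorem rOver_eq (P : Sylow 2 G) {T : Subgroup G} (hMP : M ≤ (P : Subgroup G))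
    (hPT : (P : Subgroup G) ≤ T) {lam : M → ℂ} (hlam : IsIrrCharacter M lam)
    (hlam1 : lam 1 = 1) (hinv : ∀ t ∈ T, cj M t lam = lam) :
    rOver (hMP.trans hPT) lam =
      if HasRealExt hMP lam then r (T ⧸ M.subgroupOf T) else 0 := by
  split_ifs with hE
  · obtain ⟨ν, hν, hν1, hνr, hνM⟩ := Helper73.RO.exists_real_ext M P hMP hPT hlam hlam1 hinv hE
    rw [← hνM]
    exact Helper73.RO.rOver_of_ext M (hMP.trans hPT) hν hν1 hνr
  · unfold rOver
    rw [Nat.card_eq_zero]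
    left
    constructor
    rintro ⟨χ, hro, hover⟩
    exact hE (hasRealExt_of_over M P hMP hPT hlam hinv χ.2 hro hover)

theorem r_quot_eq (P : Sylow 2 G) {T : Subgroup G} (hPT : (P : Subgroup G) ≤ T)
    (IH : Thm (T ⧸ M.subgroupOf T)) :
    r (T ⧸ M.subgroupOf T) = r (↥(Subgroup.normalizer ((P : Subgroup G) : Set G) ⊓ T) ⧸
        M.subgroupOf (Subgroup.normalizer ((P : Subgroup G) : Set G) ⊓ T)) := by
  obtain ⟨Q, ⟨e⟩⟩ := Helper69.RO.exists_sylow_quot (M.subgroupOf T) (P.subtype hPT)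
  obtain ⟨e'⟩ := quot_normalizer_iso M P hPT
  rw [IH Q, r_congr e, r_congr e']

theorem caseB (hM : IsPGroup 2 M)
    (IH : ∀ T : Subgroup G, M ≤ T → Thm (T ⧸ M.subgroupOf T)) : Thm G := by
  intro P
  classical
  have hMP : M ≤ (P : Subgroup G) := normal_pSubgroup_le_sylow 2 M inferInstance hM P
  have hPN : (P : Subgroup G) ≤ Subgroup.normalizer ((P : Subgroup G) : Set G) :=
    Subgroup.le_normalizer
  haveI : Finite (Lam M (P : Subgroup G)) := by
    unfold Lam
    infer_instance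
  haveI : Fintype (Quotient (lamSetoid M (P : Subgroup G))) := Fintype.ofFinite _
  rw [r_congr (Subgroup.topEquiv (G := G)).symm, r_eq_sum M hM P ⊤ le_top le_top,
    r_eq_sum M hM P _ le_rfl (hMP.trans hPN)]
  refine Finset.sum_congr rfl fun o _ => ?_
  obtain ⟨lam, hreal, hlam1, hPinv⟩ := Quotient.out o
  change rOver _ (lam : M → ℂ) = rOver _ (lam : M → ℂ)
  have hPI : (P : Subgroup G) ≤ inertia M (lam : M → ℂ) := fun x hx => hPinv x hx
  have h1 := Helper73.RO.rOver_clifford M P (X := ⊤) (hMP.trans hPI) le_top hPI lam.2 hreal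
    (top_inf_eq _).symm
  have h2 := Helper73.RO.rOver_clifford M P (X := Subgroup.normalizer ((P : Subgroup G) : Set G))
    (T := Subgroup.normalizer ((P : Subgroup G) : Set G) ⊓ inertia M (lam : M → ℂ))
    (hMP.trans (le_inf hPN hPI)) inf_le_left (le_inf hPN hPI) lam.2 hreal rfl
  have h3 := rOver_eq M P hMP hPI lam.2 hlam1 (fun t ht => ht)
  have h4 := rOver_eq M P hMP (le_inf hPN hPI) lam.2 hlam1 (fun t ht => ht.2)
  have h5 := r_quot_eq M P hPI (IH _ (hMP.trans hPI))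
  rw [h5] at h3
  exact h1.trans (h3.trans (h4.symm.trans h2.symm))

end B

end Cfsg.Agent.Lib.Helper68.RO
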